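import Groth.Agent.ComodLib.Chevalley
import Mathlib.RingTheory.FiniteType
import Mathlib.RingTheory.Flat.TorsionFree
import Mathlib.RingTheory.HopfAlgebra.GroupLike
import Mathlib.LinearAlgebra.FreeModule.PID
import Mathlib.LinearAlgebra.Matrix.Block

/-!
# Chevalley's theorem over a principal ideal domain
-/

set_option autoImplicit false

universe u v w

open TensorProduct Matrix

noncomputable section

namespace Groth.Agent.ChevPID

open Groth.Agent.ComodLib

section Fin

variable {R : Type u} [CommRing R] {A : Type v} [AddCommGroup A] [Module R A] [Coalgebra R A] [Module.Flat R A]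

/-- Over a noetherian ring finitely many elements of a flat coalgebra lie in a finitely generated subcomodule. -/
theorem exists_fg_subcomod [IsNoetherianRing R] (s : Finset A) :
    ∃ U : Submodule R A, U.FG ∧ ↑s ⊆ (U : Set A) ∧
      ∀ u ∈ U, Coalgebra.comul (R := R) u ∈ LinearMap.range (U.subtype.rTensor A) := by
  classical
  choose S hS using fun v : A => TensorProduct.exists_finset (Coalgebra.comul (R := R) v)
  let N : Submodule R A := Submodule.span R ↑(s.biUnion fun v => (S v).image Prod.fst)
  let φ : A →ₗ[R] (A ⧸ N) ⊗[R] A := N.mkQ.rTensor A ∘ₗ Coalgebra.comul (R := R)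
  have hUN : LinearMap.ker φ ≤ N := by
    intro x hx
    have h := congrArg (fun z => TensorProduct.rid R (A ⧸ N) ((Coalgebra.counit (R := R)).lTensor (A ⧸ N) z))
      (LinearMap.mem_ker.1 hx)
    simp only [φ, LinearMap.comp_apply, map_zero] at h
    have e : ∀ z : A ⊗[R] A, TensorProduct.rid R (A ⧸ N) ((Coalgebra.counit (R := R)).lTensor (A ⧸ N)
        (N.mkQ.rTensor A z)) = N.mkQ (TensorProduct.rid R A ((Coalgebra.counit (R := R)).lTensor A z)) := by
      intro z
      induction z using TensorProduct.induction_on with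
      | zero => simp
      | tmul p q => simp
      | add p q hp hq => simp only [map_add, hp, hq]
    rw [e, Coalgebra.lTensor_counit_comul, TensorProduct.rid_tmul, one_smul] at h
    exact (Submodule.Quotient.mk_eq_zero N).1 h
  refine ⟨LinearMap.ker φ, ?_, fun v hv => ?_, fun u hu => ?_⟩
  · haveI : Module.Finite R N := Module.Finite.iff_fg.2 (Submodule.fg_span (Finset.finite_toSet _))
    exact Submodule.FG.of_le (Submodule.fg_span (Finset.finite_toSet _)) hUN
  · show φ v = 0
    rw [LinearMap.comp_apply, hS v, map_sum]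
    refine Finset.sum_eq_zero fun p hp => ?_
    rw [LinearMap.rTensor_tmul, show N.mkQ p.1 = 0 from (Submodule.Quotient.mk_eq_zero N).2
      (Submodule.subset_span (Finset.mem_biUnion.2 ⟨v, hv, Finset.mem_image_of_mem _ hp⟩)), TensorProduct.zero_tmul]
  · have hex := Module.Flat.rTensor_exact A (LinearMap.exact_subtype_ker_map φ)
    refine LinearMap.mem_range.2 ((hex _).1 ?_)
    have h0 : φ u = 0 := hu
    have hco := Coalgebra.coassoc_apply (R := R) u
    apply (TensorProduct.assoc R (A ⧸ N) A A).injective
    have e1 : ∀ z : A ⊗[R] A, TensorProduct.assoc R (A ⧸ N) A A (φ.rTensor A z) =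
        N.mkQ.rTensor (A ⊗[R] A) (TensorProduct.assoc R A A A ((Coalgebra.comul (R := R)).rTensor A z)) := by
      intro z
      induction z using TensorProduct.induction_on with
      | zero => simp
      | tmul p q =>
        simp only [φ, LinearMap.rTensor_tmul, LinearMap.comp_apply]
        induction Coalgebra.comul (R := R) p using TensorProduct.induction_on with
        | zero => simp
        | tmul a b => simp
        | add a b ha hb => simp only [TensorProduct.add_tmul, map_add, ha, hb]
      | add p q hp hq => simp only [map_add, hp, hq]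
    rw [map_zero, e1, hco, ← LinearMap.comp_apply, LinearMap.rTensor_comp_lTensor, ← LinearMap.lTensor_comp_rTensor,
      LinearMap.comp_apply, show N.mkQ.rTensor A (Coalgebra.comul (R := R) u) = 0 from h0, map_zero]

end Fin

section Comat

variable {R : Type u} [CommRing R] {A : Type v} [CommRing A] [Bialgebra R A]
  {X : Type} [Fintype X] [DecidableEq X]

/-- Comultiplicative matrices, as matrix identities. -/
structure IsCo (R : Type u) [CommRing R] {A : Type v} [CommRing A] [Bialgebra R A] {X : Type} [Fintype X] [DecidableEq X]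
    (M : Matrix X X A) : Prop where
  comul : M.map (Bialgebra.comulAlgHom R A) =
    M.map (Algebra.TensorProduct.includeLeft : A →ₐ[R] A ⊗[R] A) *
      M.map (Algebra.TensorProduct.includeRight : A →ₐ[R] A ⊗[R] A)
  counit : M.map (Bialgebra.counitAlgHom R A) = 1

theorem isCo_iff {M : X → X → A} : IsCo R (Matrix.of M) ↔ IsComodMatrix R M := by
  refine ⟨fun h => ⟨fun i j => ?_, fun i j => ?_⟩, fun h => ⟨?_, ?_⟩⟩
  · exact (congrFun (congrFun h.comul i) j).trans (by simp [Matrix.mul_apply])
  · exact (congrFun (congrFun h.counit i) j).trans (by simp [Matrix.one_apply])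
  · ext i j
    exact (h.comul i j).trans (by simp [Matrix.mul_apply])
  · ext i j
    exact (h.counit i j).trans (by simp [Matrix.one_apply])

theorem IsCo.conj {M : Matrix X X A} (h : IsCo R M) (P Q : Matrix X X R) (hPQ : P * Q = 1) :
    IsCo R (Q.map (algebraMap R A) * M * P.map (algebraMap R A)) := by
  have hQP : Q * P = 1 := mul_eq_one_comm.1 hPQ
  have hC : ∀ {B : Type v} [CommRing B] [Algebra R B] (f : A →ₐ[R] B) (T : Matrix X X R),
      (T.map (algebraMap R A)).map f = T.map (algebraMap R B) := by
    intro B _ _ f T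
    ext i j
    simp
  constructor
  · rw [Matrix.map_mul, Matrix.map_mul, Matrix.map_mul, Matrix.map_mul, Matrix.map_mul, Matrix.map_mul, hC, hC, hC, hC,
      hC, hC, h.comul]
    have h1 : P.map (algebraMap R (A ⊗[R] A)) * Q.map (algebraMap R (A ⊗[R] A)) = 1 := by
      rw [← Matrix.map_mul, hPQ, Matrix.map_one _ (map_zero _) (map_one _)]
    simp only [← mul_assoc]
    rw [mul_assoc (_ * M.map _) (P.map _) (Q.map _), h1, mul_one]
  · have hCk : ∀ T : Matrix X X R, (T.map (algebraMap R A)).map (Bialgebra.counitAlgHom R A) = T := fun T => by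
      ext i j
      simp
    rw [Matrix.map_mul, Matrix.map_mul, hCk, hCk, h.counit, mul_one, hQP]

theorem IsCo.fromBlocks {X' : Type} [Fintype X'] [DecidableEq X'] {M : Matrix X X A} {M' : Matrix X' X' A}
    (h : IsCo R M) (h' : IsCo R M') : IsCo R (Matrix.fromBlocks M 0 0 M') := by
  constructor
  · rw [Matrix.fromBlocks_map, Matrix.fromBlocks_map, Matrix.fromBlocks_map, Matrix.fromBlocks_multiply, h.comul, h'.comul]
    simp [Matrix.map_zero _ (map_zero _)]
  · rw [Matrix.fromBlocks_map, h.counit, h'.counit]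
    simp [Matrix.map_zero _ (map_zero _), Matrix.fromBlocks_one]

theorem IsCo.det {M : Matrix X X A} (h : IsCo R M) : IsGroupLikeElem R M.det := by
  refine ⟨?_, ?_⟩
  · show Bialgebra.counitAlgHom R A M.det = 1
    rw [AlgHom.map_det, AlgHom.mapMatrix_apply, h.counit, Matrix.det_one]
  · show Bialgebra.comulAlgHom R A M.det = _
    rw [AlgHom.map_det, AlgHom.mapMatrix_apply, h.comul, Matrix.det_mul, ← AlgHom.mapMatrix_apply, ← AlgHom.mapMatrix_apply,
      ← AlgHom.map_det, ← AlgHom.map_det]
    simp

end Comat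

section Main

variable {R : Type u} [CommRing R] [IsDomain R] [IsPrincipalIdealRing R]
  {A : Type v} [CommRing A] [HopfAlgebra R A] [Module.Flat R A] [Algebra.FiniteType R A]
  {B : Type v} [CommRing B] [HopfAlgebra R B] [Module.Flat R B]

theorem exists_adapted {U : Type v} [AddCommGroup U] [Module R U] [Module.Finite R U]
    [Module.IsTorsionFree R U] {M : Type v} [AddCommGroup M] [Module R M] [Module.IsTorsionFree R M] (f : U →ₗ[R] M) :
    ∃ (d e : ℕ) (b : Module.Basis (Fin d ⊕ Fin e) R U), (∀ m, f (b (Sum.inl m)) = 0) ∧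
      LinearIndependent R (fun r => f (b (Sum.inr r))) ∧
      ∀ x, f x = 0 → x ∈ Submodule.span R (Set.range fun m => b (Sum.inl m)) := by
  classical
  haveI : Module.Free R (LinearMap.ker f) := Module.free_of_finite_type_torsion_free'
  haveI : Module.Finite R (LinearMap.range f) := Module.Finite.range f
  haveI : Module.Free R (LinearMap.range f) := Module.free_of_finite_type_torsion_free'
  let bK := Module.finBasis R (LinearMap.ker f)
  let bR := Module.finBasis R (LinearMap.range f)
  have hc : ∀ r, ∃ x : U, f x = (bR r : M) := fun r => LinearMap.mem_range.1 (bR r).2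
  choose c hc using hc
  let g : Fin _ ⊕ Fin _ → U := Sum.elim (fun m => (bK m : U)) c
  have hli : LinearIndependent R g := by
    refine LinearIndependent.sum_type ?_ ?_ ?_
    · exact bK.linearIndependent.map' (LinearMap.ker f).subtype (Submodule.ker_subtype _)
    · exact LinearIndependent.of_comp f
        (by
          rw [show (f ∘ c) = (LinearMap.range f).subtype ∘ bR from funext hc]
          exact bR.linearIndependent.map' _ (Submodule.ker_subtype _))
    · rw [Submodule.disjoint_def]
      intro x hx hx'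
      have h0 : f x = 0 := (Submodule.span_le.2 (fun y hy => by
        obtain ⟨m, rfl⟩ := hy; exact (bK m).2) : Submodule.span R _ ≤ LinearMap.ker f) hx
      obtain ⟨a, rfl⟩ := (Submodule.mem_span_range_iff_exists_fun R).1 hx'
      have h1 : ∑ r, a r • (bR r : M) = 0 := by simpa [g, map_sum, map_smul, hc] using h0
      have h2 : ∑ r, a r • bR r = 0 := Subtype.ext (by simpa using h1)
      have := Fintype.linearIndependent_iff.1 bR.linearIndependent a h2
      simp [this]
  have hker : ∀ x, f x = 0 → x ∈ Submodule.span R (Set.range fun m => (bK m : U)) := by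
    intro x hx
    have := congrArg Subtype.val (bK.sum_repr ⟨x, hx⟩)
    simp only [Submodule.coe_sum, Submodule.coe_smul] at this
    rw [← this]
    exact Submodule.sum_mem _ fun i _ => Submodule.smul_mem _ _ (Submodule.subset_span ⟨i, rfl⟩)
  have hsp : ⊤ ≤ Submodule.span R (Set.range g) := by
    intro x _
    have h := congrArg Subtype.val (bR.sum_repr ⟨f x, LinearMap.mem_range_self f x⟩)
    simp only [Submodule.coe_sum, Submodule.coe_smul] at h
    set y := ∑ r, bR.repr ⟨f x, LinearMap.mem_range_self f x⟩ r • c r with hy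
    have hy0 : f (x - y) = 0 := by rw [map_sub, hy, map_sum]; simp only [map_smul, hc, h, sub_self]
    rw [← sub_add_cancel x y]
    refine Submodule.add_mem _ (Submodule.span_mono ?_ (hker _ hy0)) ?_
    · rintro _ ⟨m, rfl⟩; exact ⟨Sum.inl m, rfl⟩
    · exact Submodule.sum_mem _ fun r _ => Submodule.smul_mem _ _ (Submodule.subset_span ⟨Sum.inr r, rfl⟩)
  refine ⟨_, _, Module.Basis.mk hli hsp, fun m => ?_, ?_, fun x hx => ?_⟩
  · rw [Module.Basis.mk_apply]
    exact (bK m).2
  · rw [show (fun r => f (Module.Basis.mk hli hsp (Sum.inr r))) = (LinearMap.range f).subtype ∘ bR from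
      funext fun r => by rw [Module.Basis.mk_apply]; exact hc r]
    exact bR.linearIndependent.map' _ (Submodule.ker_subtype _)
  · simp only [Module.Basis.mk_apply]
    exact hker x hx

theorem exists_block (π : A →ₐc[R] B) :
    ∃ (d e : ℕ) (M : Fin d ⊕ Fin e → Fin d ⊕ Fin e → A), IsComodMatrix R M ∧
      (∀ r m, π (M (Sum.inr r) (Sum.inl m)) = 0) ∧
      Algebra.adjoin R (Set.range fun p : (Fin d ⊕ Fin e) × (Fin d ⊕ Fin e) => M p.1 p.2) = ⊤ ∧
      ∀ (S : Type v) [CommRing S] [Algebra R S] (g : A →ₐ[R] S),
        (∀ r m, g (M (Sum.inr r) (Sum.inl m)) = 0) → ∀ a ∈ RingHom.ker (π : A →+* B), g a = 0 := by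
  classical
  haveI : IsNoetherianRing A := Algebra.FiniteType.isNoetherianRing R A
  obtain ⟨gA, hgA⟩ := Algebra.FiniteType.out (R := R) (A := A)
  obtain ⟨gI, hgI⟩ := IsNoetherian.noetherian (RingHom.ker (π : A →+* B))
  obtain ⟨U, hfg, hsU, hU⟩ := exists_fg_subcomod (R := R) (gA ∪ gI)
  haveI : Module.Finite R U := Module.Finite.iff_fg.2 hfg
  haveI : Module.IsTorsionFree R A := inferInstance
  let cU : HopfRep.Comod R A U := ComodSub.Comod.restr (HopfRep.Comod.regular R A) U hU
  let f : U →ₗ[R] B := (π : A →ₐ[R] B).toLinearMap ∘ₗ U.subtype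
  obtain ⟨d, e, b, hbl, hbr, hker⟩ := exists_adapted f
  let M := @matrixOf R _ A _ _ _ (Fin d ⊕ Fin e) U _ _ cU b
  have hcoe : ∀ j, Coalgebra.comul (R := R) (b j : A) = ∑ i, (b i : A) ⊗ₜ[R] M i j := by
    intro j
    rw [← show _ = Coalgebra.comul (R := R) (b j : A) from
      ComodSub.restr_coact_coe (HopfRep.Comod.regular R A) U hU (b j),
      @coact_matrixOf R _ A _ _ _ (Fin d ⊕ Fin e) _ _ U _ _ cU b j, map_sum]
    rfl
  have huniq : ∀ {N : Type v} [AddCommGroup N] [Module R N] (c c' : Fin d ⊕ Fin e → N),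
      ∑ i, b i ⊗ₜ[R] c i = ∑ i, b i ⊗ₜ[R] c' i → c = c' := by
    intro N _ _ c c' h
    funext t
    have h' := congrArg (fun z => TensorProduct.lid R N ((b.coord t).rTensor N z)) h
    simpa [Finsupp.single_apply, -Fintype.sum_sum_type] using h'
  have hM : IsComodMatrix R M := by
    refine ⟨fun i j => ?_, fun i j => ?_⟩
    · have h1 := LinearMap.congr_fun cU.coassoc (b j)
      simp only [LinearMap.comp_apply, LinearEquiv.coe_coe, @coact_matrixOf R _ A _ _ _ (Fin d ⊕ Fin e) _ _ U _ _ cU b,
        map_sum, LinearMap.rTensor_tmul, LinearMap.lTensor_tmul, TensorProduct.sum_tmul, TensorProduct.assoc_tmul] at h1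
      rw [Finset.sum_comm] at h1
      simp only [← TensorProduct.tmul_sum] at h1
      exact (congrFun (huniq _ _ h1.symm) i)
    · have h1 := LinearMap.congr_fun cU.counit_comp (b j)
      simp only [LinearMap.comp_apply, @coact_matrixOf R _ A _ _ _ (Fin d ⊕ Fin e) _ _ U _ _ cU b, map_sum,
        LinearMap.lTensor_tmul, LinearMap.flip_apply, TensorProduct.mk_apply] at h1
      have h2 : ∑ t, b t ⊗ₜ[R] Coalgebra.counit (R := R) (M t j) = ∑ t, b t ⊗ₜ[R] (if t = j then (1 : R) else 0) := by
        rw [h1, Finset.sum_eq_single j (fun t _ ht => by simp [ht]) (by simp)]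
        simp
      have h3 := congrArg (fun z => TensorProduct.rid R R ((b.coord i).rTensor R z)) h2
      simpa [Finsupp.single_apply, -Fintype.sum_sum_type] using h3
  have hrep : ∀ j, (b j : A) = ∑ i, Coalgebra.counit (R := R) (b i : A) • M i j := by
    intro j
    have h1 := congrArg (TensorProduct.lid R A) (Coalgebra.rTensor_counit_comul (R := R) (b j : A))
    rw [TensorProduct.lid_tmul, one_smul, hcoe, map_sum, map_sum] at h1
    rw [← h1]
    simp
  have hblock : ∀ r m, π (M (Sum.inr r) (Sum.inl m)) = 0 := by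
    intro r m
    have h1 := CoalgHomClass.map_comp_comul_apply π (b (Sum.inl m) : A)
    rw [show π (b (Sum.inl m) : A) = 0 from hbl m, map_zero, hcoe, map_sum, Fintype.sum_sum_type] at h1
    have hl : ∀ t, π (b (Sum.inl t) : A) = 0 := hbl
    simp only [TensorProduct.map_tmul, LinearMap.coe_coe, hl, TensorProduct.zero_tmul, Finset.sum_const_zero, zero_add] at h1
    have hv : Function.Injective ((Fintype.linearCombination R fun t => f (b (Sum.inr t))).rTensor B) :=
      Module.Flat.rTensor_preserves_injective_linearMap _ (fun x y hxy => by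
        funext t
        have := Fintype.linearIndependent_iff.1 hbr (x - y) (by
          simpa [Fintype.linearCombination_apply, sub_smul, sub_eq_zero] using hxy) t
        simpa [sub_eq_zero] using this)
    have h2 : ∑ t, (Pi.single t (1 : R) : Fin e → R) ⊗ₜ[R] π (M (Sum.inr t) (Sum.inl m)) = 0 := by
      apply hv
      rw [map_zero, map_sum]
      refine Eq.trans ?_ h1
      refine Finset.sum_congr rfl fun t _ => ?_
      rw [LinearMap.rTensor_tmul]
      congr 1
      simp [Fintype.linearCombination_apply, Pi.single_apply, f]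
    have h3 := congrArg (fun z => TensorProduct.lid R B ((LinearMap.proj r).rTensor B z)) h2
    simpa [Pi.single_apply] using h3
  refine ⟨d, e, M, hM, hblock, ?_, fun S _ _ g hg a ha => ?_⟩
  · rw [eq_top_iff, ← hgA, Algebra.adjoin_le_iff]
    intro x hx
    have hx' : (⟨x, hsU (Finset.mem_union_left _ hx)⟩ : U) ∈ Submodule.span R (Set.range b) := by
      rw [b.span_eq]; trivial
    have : x ∈ Submodule.span R (Set.range fun j => (b j : A)) := by
      have := Submodule.mem_map_of_mem (f := U.subtype) hx'
      rwa [Submodule.map_span, ← Set.range_comp] at this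
    refine (Submodule.span_le.2 ?_ : _ ≤ Subalgebra.toSubmodule (Algebra.adjoin R (Set.range fun p : (Fin d ⊕ Fin e) × (Fin d ⊕ Fin e) => M p.1 p.2))) this
    rintro _ ⟨j, rfl⟩
    show (b j : A) ∈ Algebra.adjoin R _
    rw [hrep j]
    exact Subalgebra.sum_mem _ fun i _ => Subalgebra.smul_mem _ (Algebra.subset_adjoin (show M i j ∈ Set.range fun p : (Fin d ⊕ Fin e) × (Fin d ⊕ Fin e) => M p.1 p.2 from ⟨(i, j), rfl⟩)) _
  · have hbase : ∀ m, g (b (Sum.inl m) : A) = 0 := by
      intro m
      rw [hrep, Fintype.sum_sum_type]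
      have hε : ∀ t, Coalgebra.counit (R := R) (b (Sum.inl t) : A) = 0 := fun t => by
        rw [← CoalgHomClass.counit_comp_apply π, show π (b (Sum.inl t) : A) = 0 from hbl t, map_zero]
      simp [hε, hg]
    rw [← hgI] at ha
    induction ha using Submodule.span_induction with
    | mem a ha =>
      have haI : π a = 0 := by
        have : a ∈ RingHom.ker (π : A →+* B) := hgI ▸ Ideal.subset_span ha
        exact this
      have hx := hker ⟨a, hsU (Finset.mem_union_right _ ha)⟩ haI
      have hle : Submodule.span R (Set.range fun m => b (Sum.inl m)) ≤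
          LinearMap.ker (g.toLinearMap ∘ₗ U.subtype) := Submodule.span_le.2 (by rintro _ ⟨m, rfl⟩; exact hbase m)
      exact hle hx
    | zero => exact map_zero g
    | add x y _ _ hx hy => rw [map_add, hx, hy, add_zero]
    | smul r x _ hx => rw [smul_eq_mul, map_mul, hx, mul_zero]

/-- A closed flat subgroup is cut out by the first column of a faithful matrix representation. -/
theorem exists_column (π : A →ₐc[R] B) :
    ∃ (d : ℕ) (hd : 0 < d) (a : Matrix (Fin d) (Fin d) A),
      (∀ i j, Coalgebra.comul (R := R) (a i j) = ∑ l, a i l ⊗ₜ[R] a l j) ∧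
      (∀ i j, Coalgebra.counit (R := R) (a i j) = if i = j then 1 else 0) ∧
      (∃ u : A, u * a.det = 1 ∧
        Algebra.adjoin R (Set.range (fun p : Fin d × Fin d => a p.1 p.2) ∪ {u}) = ⊤) ∧
      RingHom.ker (π : A →+* B) = Ideal.span (Set.range (fun i : {i : Fin d // i ≠ ⟨0, hd⟩} => a i.1 ⟨0, hd⟩)) := by
  classical
  obtain ⟨d, e, M, hM, hblock, hadj, hkill⟩ := exists_block π
  let ι : Fin d → Fin d ⊕ Fin e := Sum.inl
  let v : (Fin d → Fin d ⊕ Fin e) → R := minorVec R ι
  have hv : v ι = 1 := minorVec_self Sum.inl_injective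
  let M₁ := powMatrix M d
  have hM₁ : IsComodMatrix R M₁ := hM.powMatrix d
  let P : Matrix (Fin d → Fin d ⊕ Fin e) (Fin d → Fin d ⊕ Fin e) R :=
    Matrix.of fun x y => if y = ι then v x else if x = y then 1 else 0
  let Q : Matrix (Fin d → Fin d ⊕ Fin e) (Fin d → Fin d ⊕ Fin e) R :=
    Matrix.of fun x y => if y = ι then (if x = ι then 1 else - v x) else if x = y then 1 else 0
  have hPQ : P * Q = 1 := by
    ext x z
    rw [Matrix.mul_apply, Matrix.one_apply]
    by_cases hz : z = ι
    · subst hz
      rw [Finset.sum_eq_add_sum_sdiff_singleton_of_mem (Finset.mem_univ ι)]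
      simp only [P, Q, Matrix.of_apply, if_true, mul_one]
      rw [Finset.sum_congr rfl (g := fun y => if x = y then - v y else 0) (fun y hy => by
        have : y ≠ ι := by simpa using hy
        by_cases hxy : x = y <;> simp [this, hxy]), Finset.sum_ite_eq]
      by_cases hx : x = ι <;> simp [hx, hv]
    · rw [Finset.sum_eq_single z (fun y _ hy => by simp [Q, hz, hy]) (by simp)]
      simp [P, Q, hz]
  let N : Matrix (Fin d → Fin d ⊕ Fin e) (Fin d → Fin d ⊕ Fin e) A :=
    Q.map (algebraMap R A) * Matrix.of M₁ * P.map (algebraMap R A)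
  have hN : IsCo R N := (isCo_iff.2 hM₁).conj P Q hPQ
  let y : (Fin d → Fin d ⊕ Fin e) → A := orbit R M₁ v
  have hcol : ∀ x, x ≠ ι → N x ι = y x - v x • y ι := by
    intro x hx
    have h1 : ∀ t, (Matrix.of M₁ * P.map (algebraMap R A)) t ι = y t := by
      intro t
      simp [Matrix.mul_apply, P, y, orbit, Algebra.smul_def, mul_comm]
    show ((Q.map (algebraMap R A) * Matrix.of M₁) * P.map (algebraMap R A)) x ι = _
    rw [mul_assoc, Matrix.mul_apply]
    simp only [h1]
    have hsplit : ∀ t, (Q.map (algebraMap R A)) x t * y t =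
        (if t = ι then -(v x • y ι) else 0) + (if x = t then y x else 0) := by
      intro t
      by_cases ht : t = ι
      · subst ht; simp [Q, hx, Algebra.smul_def]
      · by_cases hxt : x = t
        · subst hxt; simp [Q, hx]
        · simp [Q, ht, hxt]
    simp only [hsplit, Finset.sum_add_distrib, Finset.sum_ite_eq', Finset.sum_ite_eq, Finset.mem_univ, if_true]
    ring
  let a₀ := Matrix.fromBlocks N 0 0 (Matrix.of M)
  have ha₀ : IsCo R a₀ := hN.fromBlocks (isCo_iff.2 hM)
  let Y := (Fin d → Fin d ⊕ Fin e) ⊕ (Fin d ⊕ Fin e)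
  let n := Fintype.card Y
  have hn : 0 < n := Fintype.card_pos_iff.2 ⟨Sum.inl ι⟩
  let E : Y ≃ Fin n := (Fintype.equivFin Y).trans (Equiv.swap (Fintype.equivFin Y (Sum.inl ι)) ⟨0, hn⟩)
  have hE0 : E (Sum.inl ι) = ⟨0, hn⟩ := by simp [E]
  let a : Matrix (Fin n) (Fin n) A := a₀.submatrix E.symm E.symm
  have hgl : IsGroupLikeElem R a.det := by
    rw [Matrix.det_submatrix_equiv_self]; exact ha₀.det
  refine ⟨n, hn, a, fun i j => ?_, fun i j => ?_, ⟨HopfAlgebra.antipode R a.det, hgl.antipode_mul_cancel, ?_⟩, ?_⟩
  · exact ((isCo_iff (M := a₀)).1 ha₀).comul (E.symm i) (E.symm j) |>.trans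
      (E.symm.sum_comp fun t => a₀ (E.symm i) t ⊗ₜ[R] a₀ t (E.symm j)).symm
  · exact (((isCo_iff (M := a₀)).1 ha₀).counit (E.symm i) (E.symm j)).trans (by simp)
  · rw [eq_top_iff, ← hadj]
    refine Algebra.adjoin_mono fun x hx => Or.inl ?_
    obtain ⟨⟨i, j⟩, rfl⟩ := hx
    exact ⟨(E (Sum.inr i), E (Sum.inr j)), by simp [a, a₀]⟩
  · have hdet : ∀ {S : Type v} [CommRing S] [Algebra R S] (g : A →ₐ[R] S) (i : Fin d → Fin d ⊕ Fin e),
        g (y i) = (((Matrix.of M).map g).submatrix i Sum.inl).det := by
      intro S _ _ g i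
      show g (orbit R (powMatrix M d) (minorVec R ι) i) = _
      rw [orbit_powMatrix_minorVec, AlgHom.map_det]
      rfl
    apply le_antisymm
    · intro x hx
      let J := Ideal.span (Set.range fun i : {i : Fin n // i ≠ ⟨0, hn⟩} => a i.1 ⟨0, hn⟩)
      let q : A →ₐ[R] A ⧸ J := Ideal.Quotient.mkₐ R J
      have hyq : ∀ i, q (y i) = v i • q (y ι) := by
        intro i
        by_cases hi : i = ι
        · rw [hi, hv, one_smul]
        · have : N i ι ∈ J := by
            refine Ideal.subset_span ⟨⟨E (Sum.inl i), fun h => hi (Sum.inl_injective (E.injective (h.trans hE0.symm)))⟩, ?_⟩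
            show a₀ (E.symm (E (Sum.inl i))) (E.symm ⟨0, hn⟩) = N i ι
            rw [← hE0]
            simp [a₀]
          rw [← sub_eq_zero, ← map_smul, ← map_sub, ← hcol i hi]
          exact Ideal.Quotient.eq_zero_iff_mem.2 this
      have hu : IsUnit (q (y ι)) := by
        have h1 := congrArg q (sum_antipode_mul_orbit hM₁ v ι)
        simp only [map_sum, map_mul, AlgHom.commutes, hv, map_one] at h1
        refine IsUnit.of_mul_eq_one (∑ t, q (HopfAlgebraStruct.antipode (R := R) (M₁ ι t)) * algebraMap R _ (v t)) ?_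
        rw [← h1, Finset.mul_sum]
        exact Finset.sum_congr rfl fun t _ => by
          rw [show q (orbit R M₁ v t) = _ from hyq t, Algebra.smul_def]; ring
      exact Ideal.Quotient.eq_zero_iff_mem.1 (hkill _ q (fun r m => eq_zero_of_minors ((Matrix.of M).map q) (q (y ι)) hu
        (fun i => (hdet q i).symm.trans (hyq i)) r m) x hx)
    · rw [Ideal.span_le]
      rintro _ ⟨⟨i, hi⟩, rfl⟩
      have hj : E.symm ⟨0, hn⟩ = Sum.inl ι := E.symm_apply_eq.2 hE0.symm
      show π (a₀ (E.symm i) (E.symm ⟨0, hn⟩)) = 0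
      rw [hj]
      obtain ⟨z, rfl⟩ := E.surjective i
      rw [Equiv.symm_apply_apply]
      rcases z with z | z
      · have hz : z ≠ ι := fun h => hi (by rw [h]; exact hE0)
        show π (N z ι) = 0
        rw [hcol z hz, map_sub, map_smul, sub_eq_zero]
        have h1 : ∀ t, π (y t) = v t • (((Matrix.of M).map π).submatrix ι Sum.inl).det := fun t => by
          rw [Algebra.smul_def]
          exact (hdet (π : A →ₐ[R] B) t).trans (det_submatrix_inl _ hblock t)
        rw [h1, h1, hv, one_smul]
      · show π 0 = 0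
        exact map_zero π

end Main

end Groth.Agent.ChevPID
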